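import Cfsg.Agent.Lib.PG.Gen

set_option autoImplicit false
set_option maxRecDepth 100000
set_option Elab.async false
set_option exponentiation.threshold 100000

namespace Cfsg.Agent.Spor.ThB
open Cfsg.Agent.PG

noncomputable def n0 : Net :=
 .nil

noncomputable def n1 : Net :=
 .nil

noncomputable def n2 : Net :=
 .nil

noncomputable def n3 : Net :=
 .nil

noncomputable def n4 : Net :=
 .nil

noncomputable def n5 : Net :=
 .nil

noncomputable def n6 : Net :=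
 .nil

noncomputable def n7 : Net :=
 .nil

noncomputable def n8 : Net :=
 .nil

noncomputable def n9 : Net :=
 .nil

noncomputable def n10 : Net :=
 .nil

noncomputable def n11 : Net :=
 .nil

noncomputable def n12 : Net :=
 .nil

noncomputable def n13 : Net :=
 .nil

noncomputable def n14 : Net :=
 .nil

noncomputable def n15 : Net :=
 .nil

noncomputable def n16 : Net :=
 .nil

noncomputable def n17 : Net :=
 .nil

noncomputable def n18 : Net :=
 .nil

noncomputable def n19 : Net :=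
 .nil

noncomputable def n20 : Net :=
 .nil

noncomputable def n21 : Net :=
 .nil

noncomputable def n22 : Net :=
 .nil

noncomputable def n23 : Net :=
 .nil

noncomputable def n24 : Net :=
 .nil

noncomputable def n25 : Net :=
 .nil

noncomputable def n26 : Net :=
 .nil

noncomputable def n27 : Net :=
 .nil

noncomputable def n28 : Net :=
 .nil

noncomputable def n29 : Net :=
 .nil

noncomputable def n30 : Net :=
 .nil

noncomputable def n31 : Net :=
 .nil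

noncomputable def n32 : Net :=
 .nil

noncomputable def n33 : Net :=
 (.cons 8 0x80
 (.cons 4 0x80c
 (.cons 2 0x230
 (.cons 1 0x151
 (.cons 2 0x200
 (.cons 4 0x80c
 (.cons 8 0x80
 .nil)))))))

noncomputable def n34 : Net :=
 (.cons 4 0x3
 (.cons 2 0x3
 (.cons 1 0x44
 (.cons 2 0x20
 (.cons 4 0x1
 .nil)))))

noncomputable def n35 : Net :=
 (.cons 8 0x1
 (.cons 4 0x9
 (.cons 2 0x31
 (.cons 1 0x40
 (.cons 8 0x1
 .nil)))))

noncomputable def n36 : Net :=
 (.cons 8 0x1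
 (.cons 4 0x9
 (.cons 2 0x30
 (.cons 4 0xc
 (.cons 8 0x1
 .nil)))))

noncomputable def n37 : Net :=
 (.cons 8 0x1
 (.cons 2 0x1
 (.cons 1 0x10
 (.cons 4 0x5
 (.cons 8 0x1
 .nil)))))

noncomputable def n38 : Net :=
 (.cons 8 0x40
 (.cons 4 0x404
 (.cons 2 0x110
 (.cons 4 0x404
 (.cons 8 0x40
 .nil)))))

noncomputable def n39 : Net :=
 (.cons 4 0x4
 (.cons 2 0x10
 .nil))

noncomputable def A : List Net := [n0, n1, n2, n3, n4, n5, n6, n7, n8, n9, n10, n11, n12, n13, n14, n15, n16, n17, n18, n19, n20, n21, n22, n23, n24, n25, n26, n27, n28, n29, n30, n31, n32, n33, n34, n35, n36, n37, n38, n39]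

theorem hA : okA (2 ^ 4) A = true := by decide +kernel

theorem hlen : A.length = 40 := rfl

def tr6 : List ℕ := [1, 0x14e, 0x14f]

def ce6 : List (List (ℕ × ℕ)) := [[(1, 1)],
  [(2, 1)],
  [(0, 1)]]

noncomputable def cl6_l : List Claim := plainClaims 39 tr6 ce6

def tr5 : List ℕ := [1, 0x14c, 0x14c4e, 0x14c4f]

def ce5 : List (List (ℕ × ℕ)) := [[(1, 1), (0, 0x14f)],
  [(0, 1), (2, 1)],
  [(3, 0x14e), (3, 1)],
  [(2, 0x14f), (1, 1)]]

noncomputable def cl5_l : List Claim := plainClaims 38 tr5 ce5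

def tr4 : List ℕ := [1, 0x14a, 0x14b, 0x14a4a, 0x14a4f]

def ce4 : List (List (ℕ × ℕ)) := [[(1, 1), (0, 0x14c), (0, 0x14f)],
  [(3, 1), (3, 0x14c4e), (3, 0x14c4f)],
  [(0, 1), (4, 0x14c4e), (2, 0x14e4c)],
  [(4, 0x14e4c4f), (1, 0x14f4c), (4, 0x14e4c)],
  [(2, 0x14e4c4f), (2, 0x14f4c), (1, 1)]]

noncomputable def cl4_l : List Claim := plainClaims 37 tr4 ce4

def tr3 : List ℕ := [1, 0x148, 0x1484a, 0x1484b, 0x1484a48, 0x1484a4a]

def ce3 : List (List (ℕ × ℕ)) := [[(1, 1), (0, 0x14b), (0, 0x14c), (0, 0x14f)],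
  [(0, 0x14c), (2, 1), (1, 0x14c), (1, 0x14c4e)],
  [(4, 1), (5, 1), (5, 0x14e4c4e), (5, 0x14e)],
  [(2, 0x14c4b), (1, 1), (4, 0x14c4b), (3, 0x14f)],
  [(5, 0x14e4c4e), (3, 0x14f4c4f4a4a), (3, 0x14f4c4a4a), (2, 0x14e4a4a)],
  [(3, 0x14f4a), (4, 0x14e4c4a4f), (2, 0x14f4c4f), (4, 0x14e4c4f4a)]]

noncomputable def cl3_l : List Claim := plainClaims 36 tr3 ce3

def cj2 : List ℕ := [0x14f4c4a4f484a48, 0x14c4f4a4a, 0x14f4c4a4f]

def reps2 : List Rep := [⟨1, [(0x148, 0x148), (0x14a, 0x14a), (0x14c, 0x14c), (0x14e, 0x14e)],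
   [(1, 1, 1, 1)], 3⟩,
  ⟨0x146, [(0x14b4e49, 0x14e4c4e4a4f)],
   [(1, 0x149, 1, 0x14c4f484a4a),
    (0x14a49, 1, 0, 0x14e4c4f484b)], 5⟩]

noncomputable def cl2_l : List Claim := dcClaims 35 37 cj2 reps2

def cj1 : List ℕ := [0x14f4b48464a, 0x14f4846, 0x14e4c4a4a4846, 0x14f4c4f484a484646]

def reps1 : List Rep := [⟨1, [(0x146, 0x146), (0x148, 0x148), (0x14a, 0x14a), (0x14c, 0x14c), (0x14e, 0x14e)],
   [(1, 1, 1, 1)], 3⟩,
  ⟨0x144, [(0x14a, 0x14e4c4a484a), (0x14846, 0x14e4c4e484a4a)],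
   [(1, 0x1474a, 1, 0x14f4c4b484a4a464b),
    (0x146, 1, 0, 0x14f4c4e4b484b47)], 5⟩]

noncomputable def cl1_l : List Claim := dcClaims 34 36 cj1 reps1

def cj0 : List ℕ := [0x14f4c4e4b484b464a, 0x14e4c4e4a4a4847, 0x14e4c4e4b484a4646, 0x14c4a484a4a464b, 0x14c4e4a48]

def reps0 : List Rep := [⟨1, [(0x144, 0x144), (0x146, 0x146), (0x148, 0x148), (0x14a, 0x14a), (0x14c, 0x14c), (0x14e, 0x14e)],
   [(1, 1, 1, 1)], 3⟩,
  ⟨0x142, [(0x14f46, 0x14e4a4f484a4a464a)],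
   [(1, 1, 0, 1),
    (0x145, 0x14546, 1, 0x14a4a4444)], 7⟩]

noncomputable def cl0_l : List Claim := dcClaims 33 35 cj0 reps0

theorem cl6_0 : chk A 4 (cl6_l) = true := by decide +kernel

theorem ok6 : plainOK A 39 40 6 tr6 ce6 = true := by decide +kernel

theorem orb6 : orbCardB A 1 39 6 3 3 = true := by decide +kernel

theorem cl5_0 : chk A 4 (cl5_l) = true := by decide +kernel

theorem ok5 : plainOK A 38 39 8 tr5 ce5 = true := by decide +kernel

theorem orb5 : orbCardB A 1 38 8 3 4 = true := by decide +kernel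

theorem cl4_0 : chk A 4 (cl4_l) = true := by decide +kernel

theorem ok4 : plainOK A 37 38 5 tr4 ce4 = true := by decide +kernel

theorem orb4 : orbCardB A 1 37 5 3 5 = true := by decide +kernel

theorem cl3_0 : chk A 4 (cl3_l) = true := by decide +kernel

theorem ok3 : plainOK A 36 37 3 tr3 ce3 = true := by decide +kernel

theorem orb3 : orbCardB A 1 36 3 3 6 = true := by decide +kernel

theorem cl2_0 : chk A 4 (cl2_l) = true := by decide +kernel

theorem ok2 : dcOK A 35 37 7 3 3 cj2 reps2 = true := by decide +kernel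

theorem orb2 : orbCardB A 1 35 7 3 7 = true := by decide +kernel

theorem cl1_0 : chk A 4 (cl1_l) = true := by decide +kernel

theorem ok1 : dcOK A 34 36 1 7 3 cj1 reps1 = true := by decide +kernel

theorem orb1 : orbCardB A 1 34 1 3 8 = true := by decide +kernel

theorem cl0_0 : chk A 4 (cl0_l) = true := by decide +kernel

theorem ok0 : dcOK A 33 35 0 1 3 cj0 reps0 = true := by decide +kernel

theorem orb0 : orbCardB A 1 33 0 3 9 = true := by decide +kernel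

theorem card7 : Nat.card (K A 40) = 1 := card_K_last A (le_of_eq hlen)

theorem cl6 : ∀ c ∈ cl6_l, Holds A c :=
  (chk_spec hA cl6_0)

theorem stab6 : StabIs A 39 6 40 := stabIs_plain hA ok6 cl6

theorem card6 : Nat.card (K A 39) = 3 := card_K_step hA stab6 orb6 card7

theorem cl5 : ∀ c ∈ cl5_l, Holds A c :=
  (chk_spec hA cl5_0)

theorem stab5 : StabIs A 38 8 39 := stabIs_plain hA ok5 cl5

theorem card5 : Nat.card (K A 38) = 12 := card_K_step hA stab5 orb5 card6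

theorem cl4 : ∀ c ∈ cl4_l, Holds A c :=
  (chk_spec hA cl4_0)

theorem stab4 : StabIs A 37 5 38 := stabIs_plain hA ok4 cl4

theorem card4 : Nat.card (K A 37) = 60 := card_K_step hA stab4 orb4 card5

theorem cl3 : ∀ c ∈ cl3_l, Holds A c :=
  (chk_spec hA cl3_0)

theorem stab3 : StabIs A 36 3 37 := stabIs_plain hA ok3 cl3

theorem card3 : Nat.card (K A 36) = 360 := card_K_step hA stab3 orb3 card4

theorem cl2 : ∀ c ∈ cl2_l, Holds A c :=
  (chk_spec hA cl2_0)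

theorem stab2 : StabIs A 35 7 36 := stabIs_dc hA stab3 ok2 cl2

theorem card2 : Nat.card (K A 35) = 2520 := card_K_step hA stab2 orb2 card3

theorem cl1 : ∀ c ∈ cl1_l, Holds A c :=
  (chk_spec hA cl1_0)

theorem stab1 : StabIs A 34 1 35 := stabIs_dc hA stab2 ok1 cl1

theorem card1 : Nat.card (K A 34) = 20160 := card_K_step hA stab1 orb1 card2

theorem cl0 : ∀ c ∈ cl0_l, Holds A c :=
  (chk_spec hA cl0_0)

theorem stab0 : StabIs A 33 0 34 := stabIs_dc hA stab1 ok0 cl0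

theorem card0 : Nat.card (K A 33) = 181440 := card_K_step hA stab0 orb0 card1

theorem fixTriv0 {B : Set ℕ} (h0 : 0 ∈ B) (h1 : 1 ∈ B) (h2 : 7 ∈ B) (h3 : 3 ∈ B) (h4 : 5 ∈ B) (h5 : 8 ∈ B) (h6 : 6 ∈ B) : FixTriv (K A 33) B :=
  fixTriv_step stab0 h0 <| fixTriv_step stab1 h1 <| fixTriv_step stab2 h2 <| fixTriv_step stab3 h3 <| fixTriv_step stab4 h4 <| fixTriv_step stab5 h5 <| fixTriv_step stab6 h6 <| fixTriv_last A (le_of_eq hlen) B

theorem fixTriv1 {B : Set ℕ} (h1 : 1 ∈ B) (h2 : 7 ∈ B) (h3 : 3 ∈ B) (h4 : 5 ∈ B) (h5 : 8 ∈ B) (h6 : 6 ∈ B) : FixTriv (K A 34) B :=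
  fixTriv_step stab1 h1 <| fixTriv_step stab2 h2 <| fixTriv_step stab3 h3 <| fixTriv_step stab4 h4 <| fixTriv_step stab5 h5 <| fixTriv_step stab6 h6 <| fixTriv_last A (le_of_eq hlen) B

theorem fixTriv2 {B : Set ℕ} (h2 : 7 ∈ B) (h3 : 3 ∈ B) (h4 : 5 ∈ B) (h5 : 8 ∈ B) (h6 : 6 ∈ B) : FixTriv (K A 35) B :=
  fixTriv_step stab2 h2 <| fixTriv_step stab3 h3 <| fixTriv_step stab4 h4 <| fixTriv_step stab5 h5 <| fixTriv_step stab6 h6 <| fixTriv_last A (le_of_eq hlen) B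

theorem fixTriv3 {B : Set ℕ} (h3 : 3 ∈ B) (h4 : 5 ∈ B) (h5 : 8 ∈ B) (h6 : 6 ∈ B) : FixTriv (K A 36) B :=
  fixTriv_step stab3 h3 <| fixTriv_step stab4 h4 <| fixTriv_step stab5 h5 <| fixTriv_step stab6 h6 <| fixTriv_last A (le_of_eq hlen) B

theorem fixTriv4 {B : Set ℕ} (h4 : 5 ∈ B) (h5 : 8 ∈ B) (h6 : 6 ∈ B) : FixTriv (K A 37) B :=
  fixTriv_step stab4 h4 <| fixTriv_step stab5 h5 <| fixTriv_step stab6 h6 <| fixTriv_last A (le_of_eq hlen) B

theorem fixTriv5 {B : Set ℕ} (h5 : 8 ∈ B) (h6 : 6 ∈ B) : FixTriv (K A 38) B :=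
  fixTriv_step stab5 h5 <| fixTriv_step stab6 h6 <| fixTriv_last A (le_of_eq hlen) B

theorem fixTriv6 {B : Set ℕ} (h6 : 6 ∈ B) : FixTriv (K A 39) B :=
  fixTriv_step stab6 h6 <| fixTriv_last A (le_of_eq hlen) B


end Cfsg.Agent.Spor.ThB
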